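import Groth.Agent.FlatHomBC.Alg
import Groth.Agent.CohBCLib.UnivBC
import Groth.Agent.QCohLib.OpenRestr
import Groth.Agent.KFlatLib.Stalk

/-!
# Vanishing of the cohomology of `f^*(M~) ⊗ F` for all modules `M`
-/

set_option autoImplicit false
set_option backward.isDefEq.respectTransparency false
set_option backward.isDefEq.respectTransparency.types false
set_option linter.style.haveILetI false
set_option linter.unusedSectionVars false
universe u

open CategoryTheory CategoryTheory.Limits AlgebraicGeometry TopologicalSpace Opposite TensorProduct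

noncomputable section

namespace FlatTensVanLib

variable {A : Type u} [CommRing A]

theorem rTensor_exact_of_flat_coker {V W Z : Type u} [AddCommGroup V] [Module A V] [AddCommGroup W] [Module A W]
    [AddCommGroup Z] [Module A Z] [Module.Flat A Z] (a : V →ₗ[A] W) (b : W →ₗ[A] Z)
    [Module.Flat A (Z ⧸ LinearMap.range b)] (h : ∀ x, b x = 0 → x ∈ LinearMap.range a)
    (hab : b ∘ₗ a = 0) (M : Type u) [AddCommGroup M] [Module A M]
    (y : W ⊗[A] M) (hy : b.rTensor M y = 0) : y ∈ LinearMap.range (a.rTensor M) := by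
  have h1 : (LinearMap.range b).subtype ∘ₗ b.rangeRestrict = b := rfl
  rw [← h1, LinearMap.rTensor_comp, LinearMap.comp_apply] at hy
  have hinj : Function.Injective ((LinearMap.range b).subtype.rTensor M) :=
    KFlatLib.rTensor_injective_of_flat_quotient _ (LinearMap.range b).mkQ (Submodule.injective_subtype _)
      (LinearMap.exact_subtype_mkQ _) (Submodule.mkQ_surjective _) M
  have h2 : b.rangeRestrict.rTensor M y = 0 := hinj (hy.trans (map_zero _).symm)
  have hex : Function.Exact a b.rangeRestrict := fun x => by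
    constructor
    · exact fun hx => h x (congrArg Subtype.val hx)
    · rintro ⟨v, rfl⟩
      exact Subtype.ext (LinearMap.congr_fun hab v)
  exact (rTensor_exact M hex (LinearMap.surjective_rangeRestrict b) y).1 h2

variable {X : Scheme.{u}} (f : X ⟶ Spec (CommRingCat.of A)) [QuasiCompact f] [IsSeparated f]

theorem subsingleton_HH_tA (F : X.Modules) [Coh.IsQCoh F] (hfl : FlatMod.IsFlatOver f F)
    (hH : ∀ p : ℕ, Module.Flat A ((CohBCLib.HA f p).obj F)) (n : ℕ)
    (hn : Subsingleton ((CohBCLib.HA f n).obj F)) (M : ModuleCat.{u} A) :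
    Subsingleton (Coh.HH X ((CohBCLib.tA f F).obj M) n) := by
  obtain ⟨ι, _, U, hcov, haff, hinf⟩ := CohBCLib.exists_good_cover f
  let C := (CohBCLib.cechA f U).obj F
  have hfl' : ∀ m, Module.Flat A (C.X m) := fun m => CohBCLib.flat_cochA f U F haff hfl m
  have e : ∀ m, C.homology m ≅ (CohBCLib.HA f m).obj F := fun m => CohBCLib.hCmp f U haff hcov m F
  have hH' : ∀ m, Module.Flat A (C.homology m) := fun m => by
    haveI := hH m
    exact Module.Flat.of_linearEquiv (e m).toLinearEquiv
  have hN : ∀ (M : ModuleCat.{u} A) (m : ℕ), Fintype.card ι ≤ m → IsZero (CohIII.T C m M) := fun M m hm => by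
    have := CohBCLib.isQCoh_tA f F M
    have h : Subsingleton (Coh.HH X ((CohBCLib.tA f F).obj M) m) := by
      refine (QCohLib.subsingleton_H_iff _ m).2 ?_
      have := QCohLib.subsingleton_HU_finsetSup ((CohBCLib.tA f F).obj M) Finset.univ U (fun t ht _ => hinf t ht) m
        (by rw [Finset.card_univ]; omega)
      rwa [Finset.sup_univ_eq_iSup, hcov] at this
    have hz : IsZero ((CohBCLib.HA f m).obj ((CohBCLib.tA f F).obj M)) := @ModuleCat.isZero_of_subsingleton _ _ _ h
    exact hz.of_iso ((CohBCLib.haTAIso f U haff hcov F m).app M)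
  haveI := hfl' (n + 1)
  haveI : Module.Flat A ((C.X (n + 1) : Type u) ⧸ LinearMap.range (FlatHomBC.dOut C n)) := by
    have h := FlatHomBC.flat_coker_in C hfl' hH' _ hN (n + 1)
    have e : ∀ j, j = n → LinearMap.range ((C.d j (n + 1)).hom) = LinearMap.range (FlatHomBC.dOut C n) := by
      rintro j rfl; rfl
    exact Module.Flat.of_linearEquiv (Submodule.quotEquivOfEq _ _ (e _ (CochainComplex.prev_nat_succ n))).symm
  haveI : Subsingleton (C.homology n) := (e n).toLinearEquiv.toEquiv.subsingleton
  have hex : ∀ x, FlatHomBC.dOut C n x = 0 → x ∈ LinearMap.range (FlatHomBC.dIn C n) := fun x hx =>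
    (FlatCxLib.hcls_eq_zero_iff C n (n + 1) (by simp) _ rfl ⟨x, hx⟩).1 (Subsingleton.elim _ _)
  haveI : Subsingleton ((CohIII.tensorObj C M).homology n) := by
    refine subsingleton_of_forall_eq 0 fun z => ?_
    obtain ⟨⟨y, hy⟩, rfl⟩ := FlatCxLib.hcls_surjective (CohIII.tensorObj C M) n (n + 1) (by simp) z
    exact (FlatCxLib.hcls_eq_zero_iff (CohIII.tensorObj C M) n (n + 1) (by simp) _ rfl ⟨y, hy⟩).2
      (rTensor_exact_of_flat_coker (FlatHomBC.dIn C n) (FlatHomBC.dOut C n) hex (FlatHomBC.dOut_dIn C n) M y hy)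
  have h0 : IsZero ((CohIII.tensorObj C M).homology n) := ModuleCat.isZero_of_subsingleton _
  exact ModuleCat.subsingleton_of_isZero (h0.of_iso ((CohBCLib.haTAIso f U haff hcov F n).app M).symm)

end FlatTensVanLib

end
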